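import Groth.Agent.ModFun.K590.Forms
import Groth.Agent.EssDim.K995.GenusField
import Groth.Agent.Lefpen.H705.HypSmooth
import Groth.Agent.Lefpen.H21.CiBase
import Groth.Agent.Lefpen.H723.P1Closed
import Groth.Agent.Lefpen.H703.NondegQuadCrit
import Groth.Agent.Lefpen.H717.ProjIrr
import Groth.Agent.S1529
import Groth.Agent.S0007
import Groth.Agent.S10829
import Groth.Agent.S10830
import Groth.Agent.Sga4B.FibDense
import Groth.Agent.Dix.ProjProper
import Groth.Agent.Fdesc.StructMod

/-!
# Plane cubics satisfying the Jacobian criterion are curves of genus one (`ModFun.IsCurveOfGenus 1`)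

`PC` is the cohomology of plane cubics (`h⁰(O) = 1`, connected, `h¹(O) = 1`), in the form of `S7840` for `d = 3`.
-/

set_option autoImplicit false
universe u
open CategoryTheory CategoryTheory.Limits AlgebraicGeometry LefPen

namespace K590.CubicCurve

/-- The structure morphism of the plane curve `V_+(G)`. -/
noncomputable abbrev str {K : Type u} [Field K] {d : ℕ} (G : Form 2 K d) :
    (hypIdeal G).subscheme ⟶ Spec (CommRingCat.of K) :=
  (hypIdeal G).subschemeι ≫ CohB1.ProjSpace.toSpec 2 K

/-- Cohomology of plane cubics. -/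
def PC : Prop :=
  ∀ (k : Type u) [Field k] (G : Form 2 k 3), G ≠ 0 →
    (letI : ((hypIdeal G).subscheme).Over (Spec (CommRingCat.of k)) := ⟨str G⟩
     ConnectedSpace ↥((hypIdeal G).subscheme) ∧
     Module.finrank k (Coh.HH (hypIdeal G).subscheme (Coh.structureModule (hypIdeal G).subscheme) 1) = 1)

open K590.Forms

variable {K : Type u} [Field K]

theorem ne_zero_of_jac {d : ℕ} {G : Form 2 K d} (h : Jac G) : G ≠ 0 := by
  rintro rfl
  obtain ⟨n, hn⟩ := h 0
  have h1 : Ideal.span ({((0 : Form 2 K d) : MvPolynomial (Fin (2 + 1)) K)} ∪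
      Set.range fun i => MvPolynomial.pderiv i ((0 : Form 2 K d) : MvPolynomial (Fin (2 + 1)) K)) = ⊥ := by
    rw [Ideal.span_eq_bot]
    rintro x (rfl | ⟨i, rfl⟩)
    · rfl
    · exact map_zero _
  rw [h1, Ideal.mem_bot] at hn
  exact pow_ne_zero n (MvPolynomial.X_ne_zero _) hn

theorem mapForm_ne_zero {L : Type u} [Field L] (φ : K →+* L) {d : ℕ} {G : Form 2 K d} (h : G ≠ 0) :
    Groth.Agent.Lefpen.H21.CiBase.mapForm φ G ≠ 0 := by
  intro h0
  refine h (Subtype.ext (MvPolynomial.map_injective φ φ.injective ?_))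
  have := congrArg Subtype.val h0
  rw [Groth.Agent.Lefpen.H21.CiBase.mapForm_val] at this
  rw [this, ZeroMemClass.coe_zero, ZeroMemClass.coe_zero, map_zero]

instance isProper_str (G : Form 2 K 3) : IsProper (str G) := by
  have := Groth.Agent.Dix.ProjProper.isProper_toSpec 2 K
  infer_instance

theorem smooth_str {G : Form 2 K 3} (h : Jac G) : Smooth (str G) :=
  Groth.Agent.Lefpen.H705.HypSmooth.smooth_hyp_of_X_pow_mem G h

/-- Base change of the plane curve along a field extension. -/
theorem exists_isPullback {L : Type u} [Field L] (φ : K →+* L) {d : ℕ} (G : Form 2 K d) :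
    ∃ π : (hypIdeal (Groth.Agent.Lefpen.H21.CiBase.mapForm φ G)).subscheme ⟶ (hypIdeal G).subscheme,
      IsPullback π (str (Groth.Agent.Lefpen.H21.CiBase.mapForm φ G)) (str G)
        (Spec.map (CommRingCat.ofHom φ)) := by
  have key : ∀ I' : (CohB1.ProjSpace 2 L).IdealSheafData,
      (hypIdeal G).comap (Groth.Agent.CohqB.ProjBC.pmap φ 2) = I' →
      ∃ π : I'.subscheme ⟶ (hypIdeal G).subscheme,
        IsPullback π (I'.subschemeι ≫ CohB1.ProjSpace.toSpec 2 L) (str G) (Spec.map (CommRingCat.ofHom φ)) := by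
    rintro _ rfl
    exact ⟨_, (Groth.Agent.Lefpen.H21.CiBase.isPullback_comap (hypIdeal G)
      (Groth.Agent.CohqB.ProjBC.pmap φ 2)).flip.paste_vert (Groth.Agent.CohqB.ProjBC.isPullback_pmap φ 2)⟩
  exact key _ (Groth.Agent.Lefpen.H21.CiBase.comap_hypIdeal φ G)

theorem irreducibleSpace (H : PC.{u}) {G : Form 2 K 3} (h : G ≠ 0) [Smooth (str G)] :
    IrreducibleSpace ↥(hypIdeal G).subscheme := by
  have h1 := (H K G h).1
  exact Groth.Agent.Sga4B.FibDense.irreducibleSpace_of_smooth (str G)

theorem geometricallyIrreducible_str (H : PC.{u}) {G : Form 2 K 3} (h : Jac G) :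
    GeometricallyIrreducible (str G) := by
  have hs := smooth_str h
  refine ⟨fun Ω _ t X q i hX => ?_⟩
  obtain ⟨φ, rfl⟩ : ∃ φ, t = Spec.map φ := ⟨_, (Spec.map_preimage t).symm⟩
  obtain ⟨π, hπ⟩ := exists_isPullback φ.hom G
  let e : (hypIdeal (Groth.Agent.Lefpen.H21.CiBase.mapForm φ.hom G)).subscheme ≅ X :=
    hπ.isoIsPullback _ _ hX
  have h1 : Smooth (str (Groth.Agent.Lefpen.H21.CiBase.mapForm φ.hom G)) :=
    MorphismProperty.of_isPullback hπ hs
  have h2 := irreducibleSpace H (mapForm_ne_zero φ.hom (ne_zero_of_jac h))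
  exact (Homeomorph.irreducibleSpace_iff (Scheme.homeoOfIso e)).1 h2

theorem topologicalKrullDim_le_one [Infinite K] {G : Form 2 K 3} (h : G ≠ 0) :
    topologicalKrullDim ↥(hypIdeal G).subscheme ≤ ((1 : ℕ) : WithBot ℕ∞) := by
  have h1 : (Set.range (hypIdeal G).subschemeι) ≠ Set.univ := by
    intro h2
    let z : Spec (CommRingCat.of (MvPolynomial (Fin 2) K)) := (⟨⊥, Ideal.isPrime_bot⟩ : PrimeSpectrum _)
    have h3 := (Groth.Agent.Lefpen.H723.P1Closed.chart_mem_support_iff (0 : Fin (2 + 1)) G z).1 (by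
      have h4 : Groth.Agent.Sga5.ProjSmooth.chart 2 K 0 z ∈ Set.range (hypIdeal G).subschemeι := by
        rw [h2]; trivial
      rwa [Scheme.IdealSheafData.range_subschemeι] at h4)
    have h5 : Groth.Agent.Sga5.ProjChart.dehom 2 K 0 G.1 = 0 := h3
    exact h (Subtype.ext (Groth.Agent.Lefpen.H703.NondegQuadCrit.eq_zero_of_forall_dehom 0
      ((MvPolynomial.mem_homogeneousSubmodule _ _).1 G.2) h5))
  have hd := Groth.Agent.S10829.result K 2
  have h2 := Groth.Agent.S10830.result (CohB1.ProjSpace 2 K)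
    (by rw [hd]; exact WithBot.coe_injective.ne (ENat.natCast_ne_top 2)) _
    (hypIdeal G).subschemeι.isClosedEmbedding.isClosed_range h1
  have h3 := IsHomeomorph.topologicalKrullDim_eq _
    ((hypIdeal G).subschemeι.isClosedEmbedding.isEmbedding.toHomeomorph).isHomeomorph
  rw [h3, ← ENat.WithBot.lt_add_one_iff]
  refine lt_of_lt_of_eq h2 ?_
  rw [hd]
  norm_num

theorem topologicalKrullDim_eq_one [Infinite K] (H : PC.{u}) {G : Form 2 K 3} (h : G ≠ 0) :
    topologicalKrullDim ↥(hypIdeal G).subscheme = 1 := by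
  refine le_antisymm (topologicalKrullDim_le_one h) ?_
  let _ : ((hypIdeal G).subscheme).Over (Spec (CommRingCat.of K)) := ⟨str G⟩
  have h1 := (H K G h).2
  have _ : IsProper ((hypIdeal G).subscheme ↘ Spec (CommRingCat.of K)) := isProper_str G
  by_contra h2
  rw [not_le] at h2
  have h3 : topologicalKrullDim ↥(hypIdeal G).subscheme ≤ 0 := by
    have h4 : topologicalKrullDim ↥(hypIdeal G).subscheme < ((0 : ℕ) : WithBot ℕ∞) + 1 := by
      simpa using h2
    have h5 := ENat.WithBot.lt_add_one_iff.1 h4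
    simpa using h5
  have h4 : IsAffine (hypIdeal G).subscheme := (Groth.Agent.S1529.result K _ h3).1
  have _ : Coh.IsQCoh (Coh.structureModule (hypIdeal G).subscheme) :=
    Groth.Agent.Fdesc.StructMod.isQCoh_structureModule _
  have h5 := Groth.Agent.S0007.result (hypIdeal G).subscheme (Coh.structureModule _) 1 one_pos
  have h6 := Module.finrank_zero_of_subsingleton (R := K) (M := Coh.HH (hypIdeal G).subscheme
    (Coh.structureModule (hypIdeal G).subscheme) 1)
  rw [h6] at h1
  exact zero_ne_one h1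

/-- **Plane cubics satisfying the Jacobian criterion are curves of genus one.** -/
theorem isCurveOfGenus_str [Infinite K] (H : PC.{u}) {G : Form 2 K 3} (h : Jac G) :
    ModFun.IsCurveOfGenus 1 (str G) := by
  rw [K995.GenusField.isCurveOfGenus_iff]
  exact ⟨smooth_str h, isProper_str G, geometricallyIrreducible_str H h,
    topologicalKrullDim_eq_one H (ne_zero_of_jac h), (H K G (ne_zero_of_jac h)).2⟩

end K590.CubicCurve
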