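import Groth.Agent.EssDim.K995.GenusField

/-!
# Fine moduli and locally isomorphic families

If the moduli problem of curves of genus `g` has a fine moduli scheme, two families over `T` which become isomorphic
over an epimorphism `T' ⟶ T` are isomorphic.
-/

set_option autoImplicit false
universe u
open CategoryTheory CategoryTheory.Limits AlgebraicGeometry

namespace K590.Fine

theorem nonempty_iso_of_pullback {S : Scheme.{u}} {g : ℕ} {M : Over S}
    (hM : ModFun.IsFineModuli ⊤ (ModFun.Mg S g) M) {T T' : Over S} (π : T' ⟶ T) [Epi π.left]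
    (x₁ x₂ : Over T.left) (h₁ : ModFun.IsCurveOfGenus g x₁.hom) (h₂ : ModFun.IsCurveOfGenus g x₂.hom)
    (e : Nonempty ((Over.pullback π.left).obj x₁ ≅ (Over.pullback π.left).obj x₂)) :
    Nonempty (x₁ ≅ x₂) := by
  obtain ⟨ξ, hξ, huniv⟩ := hM
  obtain ⟨g₁, ⟨e₁⟩, -⟩ := huniv T x₁ trivial ⟨trivial, h₁⟩
  obtain ⟨g₂, ⟨e₂⟩, -⟩ := huniv T x₂ trivial ⟨trivial, h₂⟩
  obtain ⟨e⟩ := e
  have hD : ModFun.IsCurveOfGenus g ((Over.pullback π.left).obj x₁).hom :=
    K995.GenusField.isCurveOfGenus_of_isPullback (IsPullback.of_hasPullback x₁.hom π.left) h₁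
  obtain ⟨h, -, huniq⟩ := huniv T' ((Over.pullback π.left).obj x₁) trivial ⟨trivial, hD⟩
  have i₁ : (Over.pullback (π ≫ g₁).left).obj ξ ≅ (Over.pullback π.left).obj x₁ :=
    (Over.pullbackComp π.left g₁.left).app ξ ≪≫ (Over.pullback π.left).mapIso e₁
  have i₂ : (Over.pullback (π ≫ g₂).left).obj ξ ≅ (Over.pullback π.left).obj x₁ :=
    (Over.pullbackComp π.left g₂.left).app ξ ≪≫ (Over.pullback π.left).mapIso e₂ ≪≫ e.symm
  have hg : π ≫ g₁ = π ≫ g₂ := (huniq (π ≫ g₁) ⟨i₁⟩).trans (huniq (π ≫ g₂) ⟨i₂⟩).symm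
  have hg' : g₁ = g₂ := by
    apply Over.OverMorphism.ext
    rw [← cancel_epi π.left]
    exact congrArg CommaMorphism.left hg
  subst hg'
  exact ⟨e₁.symm ≪≫ e₂⟩

end K590.Fine
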