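import Groth.Prelude.Def_LefPen
import Mathlib.FieldTheory.RatFunc.AsPolynomial
import Mathlib.FieldTheory.IsAlgClosed.AlgebraicClosure
import Mathlib.Algebra.Polynomial.Roots

/-!
# Ternary cubics `a T₀³ + b T₁³ + c T₂³ + e T₀T₁T₂`

* `jac_cub`: the Jacobian criterion, if `a, b, c, e` and `27abc + e³` are nonzero (all characteristics).
* `descent`: `T₀³ + t T₁³ + t² T₂³ + d t T₀T₁T₂` has no nontrivial zero over `k(t)`.
-/

set_option autoImplicit false
universe u

open LefPen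

namespace K590.Forms

section mon

open MvPolynomial

variable {K : Type u} [Field K]

/-- The cubic monomial `T_i T_j T_l`. -/
noncomputable def mon (i j l : Fin (2 + 1)) : Form 2 K 3 :=
  ⟨X i * X j * X l, (mem_homogeneousSubmodule _ _).2
    (((isHomogeneous_X K i).mul (isHomogeneous_X K j)).mul (isHomogeneous_X K l))⟩

@[simp] theorem mon_val (i j l : Fin (2 + 1)) : ((mon i j l : Form 2 K 3) : MvPolynomial (Fin (2 + 1)) K) =
    X i * X j * X l := rfl

theorem smul_val (a : K) (F : Form 2 K 3) : ((a • F : Form 2 K 3) : MvPolynomial (Fin (2 + 1)) K) =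
    C a * (F : MvPolynomial (Fin (2 + 1)) K) := by
  rw [← MvPolynomial.smul_eq_C_mul]; rfl

theorem add_val (F G : Form 2 K 3) : ((F + G : Form 2 K 3) : MvPolynomial (Fin (2 + 1)) K) =
    (F : MvPolynomial (Fin (2 + 1)) K) + (G : MvPolynomial (Fin (2 + 1)) K) := rfl

/-- The Jacobian criterion, in the form used in `HypSmooth`. -/
def Jac {d : ℕ} (G : Form 2 K d) : Prop :=
  ∀ j, ∃ n : ℕ, (MvPolynomial.X j : MvPolynomial (Fin (2 + 1)) K) ^ n ∈
      Ideal.span ({G.1} ∪ Set.range fun i => MvPolynomial.pderiv i G.1)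

/-- `a T₀³ + b T₁³ + c T₂³ + e T₀T₁T₂`. -/
noncomputable def cub (a b c e : K) : Form 2 K 3 :=
  a • mon 0 0 0 + b • mon 1 1 1 + c • mon 2 2 2 + e • mon 0 1 2

theorem cub_val (a b c e : K) : (cub a b c e).1 = C a * (X 0 * X 0 * X 0) + C b * (X 1 * X 1 * X 1) +
    C c * (X 2 * X 2 * X 2) + C e * (X 0 * X 1 * X 2) := by
  simp only [cub, add_val, smul_val, mon_val]

theorem eval_cub (a b c e : K) (v : Fin (2 + 1) → K) :
    eval v (cub a b c e).1 = a * v 0 ^ 3 + b * v 1 ^ 3 + c * v 2 ^ 3 + e * (v 0 * v 1 * v 2) := by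
  rw [cub_val]; simp only [map_add, map_mul, eval_C, eval_X]; ring

theorem pderiv_zero_cub (a b c e : K) : pderiv 0 (cub a b c e).1 = C (3 * a) * X 0 ^ 2 + C e * (X 1 * X 2) := by
  rw [cub_val]
  have h1 : pderiv (0 : Fin (2 + 1)) (X 1 : MvPolynomial (Fin (2 + 1)) K) = 0 := pderiv_X_of_ne (by decide)
  have h2 : pderiv (0 : Fin (2 + 1)) (X 2 : MvPolynomial (Fin (2 + 1)) K) = 0 := pderiv_X_of_ne (by decide)
  simp only [map_add, Derivation.leibniz, pderiv_C, pderiv_X_self, h1, h2, smul_eq_mul, C_mul, map_ofNat]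
  ring

theorem pderiv_one_cub (a b c e : K) : pderiv 1 (cub a b c e).1 = C (3 * b) * X 1 ^ 2 + C e * (X 0 * X 2) := by
  rw [cub_val]
  have h1 : pderiv (1 : Fin (2 + 1)) (X 0 : MvPolynomial (Fin (2 + 1)) K) = 0 := pderiv_X_of_ne (by decide)
  have h2 : pderiv (1 : Fin (2 + 1)) (X 2 : MvPolynomial (Fin (2 + 1)) K) = 0 := pderiv_X_of_ne (by decide)
  simp only [map_add, Derivation.leibniz, pderiv_C, pderiv_X_self, h1, h2, smul_eq_mul, C_mul, map_ofNat]
  ring

theorem pderiv_two_cub (a b c e : K) : pderiv 2 (cub a b c e).1 = C (3 * c) * X 2 ^ 2 + C e * (X 0 * X 1) := by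
  rw [cub_val]
  have h1 : pderiv (2 : Fin (2 + 1)) (X 0 : MvPolynomial (Fin (2 + 1)) K) = 0 := pderiv_X_of_ne (by decide)
  have h2 : pderiv (2 : Fin (2 + 1)) (X 1 : MvPolynomial (Fin (2 + 1)) K) = 0 := pderiv_X_of_ne (by decide)
  simp only [map_add, Derivation.leibniz, pderiv_C, pderiv_X_self, h1, h2, smul_eq_mul, C_mul, map_ofNat]
  ring

/-- Algebra behind the Jacobian criterion. -/
theorem pow_zero_of {R : Type u} [CommRing R] (a b c e a' b' c' e' D x y z : R) (ha : a' * a = 1) (hb : b' * b = 1)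
    (hc : c' * c = 1) (he : e' * e = 1) (hD : D * (27 * (a * b * c) + e ^ 3) = 1)
    (h3 : (3 : R) = 0 ∨ ∃ r : R, r * 3 = 1)
    (h : a * x ^ 3 + b * y ^ 3 + c * z ^ 3 + e * (x * y * z) = 0)
    (h0 : 3 * a * x ^ 2 + e * (y * z) = 0) (h1 : 3 * b * y ^ 2 + e * (x * z) = 0)
    (h2 : 3 * c * z ^ 2 + e * (x * y) = 0) : x ^ 6 = 0 ∧ y ^ 6 = 0 ∧ z ^ 6 = 0 := by
  rcases h3 with h3 | ⟨r, hr⟩
  · have hyz : y * z = 0 := by linear_combination e' * h0 - e' * a * x ^ 2 * h3 - y * z * he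
    have hxz : x * z = 0 := by linear_combination e' * h1 - e' * b * y ^ 2 * h3 - x * z * he
    have hxy : x * y = 0 := by linear_combination e' * h2 - e' * c * z ^ 2 * h3 - x * y * he
    have hx : x ^ 4 = 0 := by
      linear_combination a' * x * h - a' * b * y ^ 2 * hxy - a' * c * z ^ 2 * hxz - a' * e * x * x * hyz - x ^ 4 * ha
    have hy : y ^ 4 = 0 := by
      linear_combination b' * y * h - b' * a * x ^ 2 * hxy - b' * c * z ^ 2 * hyz - b' * e * y * y * hxz - y ^ 4 * hb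
    have hz : z ^ 4 = 0 := by
      linear_combination c' * z * h - c' * a * x ^ 2 * hxz - c' * b * y ^ 2 * hyz - c' * e * z * z * hxy - z ^ 4 * hc
    refine ⟨?_, ?_, ?_⟩
    · linear_combination x ^ 2 * hx
    · linear_combination y ^ 2 * hy
    · linear_combination z ^ 2 * hz
  · have h0' : 3 * a * x ^ 2 = - (e * (y * z)) := by linear_combination h0
    have h1' : 3 * b * y ^ 2 = - (e * (x * z)) := by linear_combination h1
    have h2' : 3 * c * z ^ 2 = - (e * (x * y)) := by linear_combination h2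
    have hm : (x * y * z) ^ 2 = 0 := by
      have hp : (3 * a * x ^ 2) * (3 * b * y ^ 2) * (3 * c * z ^ 2) =
          (- (e * (y * z))) * (- (e * (x * z))) * (- (e * (x * y))) := by rw [h0', h1', h2']
      linear_combination D * hp - (x * y * z) ^ 2 * hD
    have e0 : 3 * a * x ^ 3 = - (e * (x * y * z)) := by linear_combination x * h0
    have e1 : 3 * b * y ^ 3 = - (e * (x * y * z)) := by linear_combination y * h1
    have e2 : 3 * c * z ^ 3 = - (e * (x * y * z)) := by linear_combination z * h2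
    have f0 : x ^ 3 = - (r * a' * e * (x * y * z)) := by
      linear_combination r * a' * e0 - a' * a * x ^ 3 * hr - x ^ 3 * ha
    have f1 : y ^ 3 = - (r * b' * e * (x * y * z)) := by
      linear_combination r * b' * e1 - b' * b * y ^ 3 * hr - y ^ 3 * hb
    have f2 : z ^ 3 = - (r * c' * e * (x * y * z)) := by
      linear_combination r * c' * e2 - c' * c * z ^ 3 * hr - z ^ 3 * hc
    refine ⟨?_, ?_, ?_⟩
    · calc x ^ 6 = (x ^ 3) ^ 2 := by ring
        _ = (r * a' * e) ^ 2 * (x * y * z) ^ 2 := by rw [f0]; ring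
        _ = 0 := by rw [hm, mul_zero]
    · calc y ^ 6 = (y ^ 3) ^ 2 := by ring
        _ = (r * b' * e) ^ 2 * (x * y * z) ^ 2 := by rw [f1]; ring
        _ = 0 := by rw [hm, mul_zero]
    · calc z ^ 6 = (z ^ 3) ^ 2 := by ring
        _ = (r * c' * e) ^ 2 * (x * y * z) ^ 2 := by rw [f2]; ring
        _ = 0 := by rw [hm, mul_zero]

/-- The cubics with `abce(27abc + e³) ≠ 0` satisfy the Jacobian criterion. -/
theorem jac_cub {a b c e : K} (ha : a ≠ 0) (hb : b ≠ 0) (hc : c ≠ 0) (he : e ≠ 0)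
    (hD : 27 * (a * b * c) + e ^ 3 ≠ 0) : Jac (cub a b c e) := by
  set I : Ideal (MvPolynomial (Fin (2 + 1)) K) :=
    Ideal.span ({(cub a b c e).1} ∪ Set.range fun i => MvPolynomial.pderiv i (cub a b c e).1) with hI
  let q : MvPolynomial (Fin (2 + 1)) K →+* MvPolynomial (Fin (2 + 1)) K ⧸ I := Ideal.Quotient.mk I
  let g : K →+* MvPolynomial (Fin (2 + 1)) K ⧸ I := q.comp C
  have hg : ∀ r : K, q (C r) = g r := fun _ => rfl
  have e0 : q (cub a b c e).1 = 0 := Ideal.Quotient.eq_zero_iff_mem.2 (Ideal.subset_span (Or.inl rfl))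
  have e1 : ∀ i, q (pderiv i (cub a b c e).1) = 0 := fun i =>
    Ideal.Quotient.eq_zero_iff_mem.2 (Ideal.subset_span (Or.inr ⟨i, rfl⟩))
  have d0 := e1 0
  have d1 := e1 1
  have d2 := e1 2
  rw [pderiv_zero_cub] at d0
  rw [pderiv_one_cub] at d1
  rw [pderiv_two_cub] at d2
  rw [cub_val] at e0
  simp only [map_add, map_mul, map_pow, hg, map_ofNat] at e0 d0 d1 d2
  have h3g : g (3 : K) = 3 := map_ofNat g 3
  have h3 : (3 : MvPolynomial (Fin (2 + 1)) K ⧸ I) = 0 ∨ ∃ r : MvPolynomial (Fin (2 + 1)) K ⧸ I, r * 3 = 1 := by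
    by_cases h : (3 : K) = 0
    · left
      rw [← h3g, h, map_zero]
    · right
      refine ⟨g (3 : K)⁻¹, ?_⟩
      rw [← h3g, ← map_mul, inv_mul_cancel₀ h, map_one]
  obtain ⟨hx, hy, hz⟩ := pow_zero_of (g a) (g b) (g c) (g e) (g a⁻¹) (g b⁻¹) (g c⁻¹) (g e⁻¹)
    (g (27 * (a * b * c) + e ^ 3)⁻¹) (q (X 0)) (q (X 1)) (q (X 2))
    (by rw [← map_mul, inv_mul_cancel₀ ha, map_one]) (by rw [← map_mul, inv_mul_cancel₀ hb, map_one])
    (by rw [← map_mul, inv_mul_cancel₀ hc, map_one]) (by rw [← map_mul, inv_mul_cancel₀ he, map_one])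
    (by
      have : g ((27 * (a * b * c) + e ^ 3)⁻¹ * (27 * (a * b * c) + e ^ 3)) = 1 := by
        rw [inv_mul_cancel₀ hD, map_one]
      rw [map_mul] at this
      simpa only [map_add, map_mul, map_pow, map_ofNat] using this)
    h3 (by linear_combination e0) (by linear_combination d0) (by linear_combination d1)
    (by linear_combination d2)
  intro j
  refine ⟨6, ?_⟩
  rw [← hI, ← Ideal.Quotient.eq_zero_iff_mem, map_pow]
  fin_cases j
  · exact hx
  · exact hy
  · exact hz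

end mon

/-- Infinite descent. -/
theorem eq_zero_of_descent {A : Type u} [CommRing A] (π : A) (hsep : ∀ x : A, (∀ n : ℕ, π ^ n ∣ x) → x = 0)
    (P : A → A → A → Prop)
    (h : ∀ x y z, P x y z → ∃ x' y' z', P x' y' z' ∧ x = π * x' ∧ y = π * y' ∧ z = π * z')
    (x y z : A) (hP : P x y z) : x = 0 ∧ y = 0 ∧ z = 0 := by
  have key : ∀ n : ℕ, ∀ x y z, P x y z → π ^ n ∣ x ∧ π ^ n ∣ y ∧ π ^ n ∣ z := by
    intro n
    induction n with
    | zero => intro x y z _; simp
    | succ n ih =>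
      intro x y z hP
      obtain ⟨x', y', z', hP', rfl, rfl, rfl⟩ := h x y z hP
      obtain ⟨h1, h2, h3⟩ := ih x' y' z' hP'
      rw [pow_succ']
      exact ⟨mul_dvd_mul_left _ h1, mul_dvd_mul_left _ h2, mul_dvd_mul_left _ h3⟩
  exact ⟨hsep _ fun n => (key n x y z hP).1, hsep _ fun n => (key n x y z hP).2.1,
    hsep _ fun n => (key n x y z hP).2.2⟩

variable {k : Type u} [Field k]

theorem sep (x : Polynomial k) (h : ∀ n : ℕ, (Polynomial.X : Polynomial k) ^ n ∣ x) : x = 0 := by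
  ext m
  have := (Polynomial.X_pow_dvd_iff.1 (h (m + 1))) m (Nat.lt_succ_self m)
  simpa using this

open Polynomial in
theorem descent (d x y z : Polynomial k)
    (h : x ^ 3 + X * y ^ 3 + X ^ 2 * z ^ 3 + d * X * (x * y * z) = 0) : x = 0 ∧ y = 0 ∧ z = 0 := by
  refine eq_zero_of_descent (X : Polynomial k) sep
    (fun x y z => x ^ 3 + X * y ^ 3 + X ^ 2 * z ^ 3 + d * X * (x * y * z) = 0) ?_ x y z h
  intro x y z h
  have hX : Prime (X : Polynomial k) := Polynomial.prime_X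
  have hX0 : (X : Polynomial k) ≠ 0 := Polynomial.X_ne_zero
  obtain ⟨x', rfl⟩ : X ∣ x := hX.dvd_of_dvd_pow (n := 3)
    ⟨-(y ^ 3 + X * z ^ 3 + d * (x * y * z)), by linear_combination h⟩
  have h1 : X ^ 2 * x' ^ 3 + y ^ 3 + X * z ^ 3 + d * X * (x' * y * z) = 0 := by
    refine (mul_eq_zero.1 (?_ : X * _ = 0)).resolve_left hX0
    linear_combination h
  obtain ⟨y', rfl⟩ : X ∣ y := hX.dvd_of_dvd_pow (n := 3)
    ⟨-(X * x' ^ 3 + z ^ 3 + d * (x' * y * z)), by linear_combination h1⟩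
  have h2 : X * x' ^ 3 + X ^ 2 * y' ^ 3 + z ^ 3 + d * X * (x' * y' * z) = 0 := by
    refine (mul_eq_zero.1 (?_ : X * _ = 0)).resolve_left hX0
    linear_combination h1
  obtain ⟨z', rfl⟩ : X ∣ z := hX.dvd_of_dvd_pow (n := 3)
    ⟨-(x' ^ 3 + X * y' ^ 3 + d * (x' * y' * z)), by linear_combination h2⟩
  refine ⟨x', y', z', ?_, rfl, rfl, rfl⟩
  refine (mul_eq_zero.1 (?_ : X * _ = 0)).resolve_left hX0
  linear_combination h2

/-- Clearing denominators. -/
theorem exists_clear (v : Fin (2 + 1) → RatFunc k) : ∃ (d : Polynomial k) (p : Fin (2 + 1) → Polynomial k),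
    d ≠ 0 ∧ ∀ i, algebraMap (Polynomial k) (RatFunc k) (p i) = algebraMap (Polynomial k) (RatFunc k) d * v i := by
  obtain ⟨b, hb⟩ := IsLocalization.exist_integer_multiples_of_finite (nonZeroDivisors (Polynomial k)) v
  choose p hp using hb
  refine ⟨b, p, nonZeroDivisors.ne_zero b.2, fun i => ?_⟩
  rw [hp i, Algebra.smul_def]

/-- `T₀³ + t T₁³ + t² T₂³ + d t T₀T₁T₂` has no nontrivial zero over `k(t)`. -/
theorem eq_zero_of_eval (d : k) (v : Fin (2 + 1) → RatFunc k)
    (h : v 0 ^ 3 + RatFunc.X * v 1 ^ 3 + RatFunc.X ^ 2 * v 2 ^ 3 + RatFunc.C d * RatFunc.X * (v 0 * v 1 * v 2) = 0) :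
    v = 0 := by
  obtain ⟨b, p, hb, hp⟩ := exists_clear v
  have hinj := FaithfulSMul.algebraMap_injective (Polynomial k) (RatFunc k)
  have h1 : (p 0) ^ 3 + Polynomial.X * (p 1) ^ 3 + Polynomial.X ^ 2 * (p 2) ^ 3 +
      Polynomial.C d * Polynomial.X * (p 0 * p 1 * p 2) = 0 := by
    apply hinj
    simp only [map_add, map_mul, map_pow, map_zero, hp, RatFunc.algebraMap_X, RatFunc.algebraMap_C]
    linear_combination (algebraMap (Polynomial k) (RatFunc k) b) ^ 3 * h
  obtain ⟨h2, h3, h4⟩ := descent _ _ _ _ h1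
  have hb' : algebraMap (Polynomial k) (RatFunc k) b ≠ 0 := by
    rw [Ne, map_eq_zero_iff _ hinj]; exact hb
  funext i
  have h5 : p i = 0 := by
    fin_cases i
    · exact h2
    · exact h3
    · exact h4
  have h6 := hp i
  rw [h5, map_zero] at h6
  exact (mul_eq_zero.1 h6.symm).resolve_left hb'

end K590.Forms
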