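import Groth.Agent.ModFun.K590.Forms
import Groth.Agent.ModFun.K590.CubicCurve
import Groth.Agent.ModFun.K590.Fine
import Groth.Agent.Lefpen.H170.LinAut
import Groth.Agent.Lefpen.H720.HomPt
import Mathlib.AlgebraicGeometry.Morphisms.FlatMono

/-!
# Two plane cubics over `k(t)`: the moduli problem of curves of genus one has no fine moduli scheme
-/

set_option autoImplicit false
universe u

open CategoryTheory CategoryTheory.Limits AlgebraicGeometry LefPen

namespace K590.Pair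

open Groth.Agent.Lefpen.H21.CiBase Groth.Agent.Lefpen.H170.LinAut K590.Forms K590.CubicCurve
open Groth.Agent.Lefpen.H720.AffPt Groth.Agent.Lefpen.H720.HomPt

variable {K : Type u} [Field K]

theorem mapForm_cub {L : Type u} [Field L] (φ : K →+* L) (a b c e : K) :
    mapForm φ (cub a b c e) = cub (φ a) (φ b) (φ c) (φ e) := by
  apply Subtype.ext
  rw [mapForm_val, cub_val, cub_val]
  simp only [map_add, map_mul, MvPolynomial.map_C, MvPolynomial.map_X]

/-- The diagonal linear automorphism. -/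
noncomputable def dia (c : Fin (2 + 1) → K) (hc : ∀ i, c i ≠ 0) : (Fin (2 + 1) → K) ≃ₗ[K] (Fin (2 + 1) → K) :=
  LinearEquiv.piCongrRight fun i => LinearEquiv.smulOfNeZero K K (c i) (hc i)

theorem dia_apply (c : Fin (2 + 1) → K) (hc : ∀ i, c i ≠ 0) (v : Fin (2 + 1) → K) (i : Fin (2 + 1)) :
    dia c hc v i = c i * v i := rfl

theorem subForm_cub [Infinite K] (s d : K) (hc : ∀ i, (![1, s, s ^ 2] : Fin (2 + 1) → K) i ≠ 0) :
    subForm (dia ![1, s, s ^ 2] hc : (Fin (2 + 1) → K) →ₗ[K] (Fin (2 + 1) → K)) (cub 1 1 1 d) =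
      cub 1 (s ^ 3) ((s ^ 3) ^ 2) (d * s ^ 3) := by
  apply Subtype.ext
  refine MvPolynomial.funext fun v => ?_
  change MvPolynomial.eval v (sub _ (cub 1 1 1 d).1) = _
  rw [eval_sub, eval_cub, eval_cub]
  have h0 : dia ![1, s, s ^ 2] hc v 0 = v 0 := by rw [dia_apply]; simp
  have h1 : dia ![1, s, s ^ 2] hc v 1 = s * v 1 := by rw [dia_apply]; simp
  have h2 : dia ![1, s, s ^ 2] hc v 2 = s ^ 2 * v 2 := by rw [dia_apply]; simp
  change 1 * (dia ![1, s, s ^ 2] hc v 0) ^ 3 + 1 * (dia ![1, s, s ^ 2] hc v 1) ^ 3 + 1 * (dia ![1, s, s ^ 2] hc v 2) ^ 3 +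
    d * (dia ![1, s, s ^ 2] hc v 0 * dia ![1, s, s ^ 2] hc v 1 * dia ![1, s, s ^ 2] hc v 2) = _
  rw [h0, h1, h2]
  ring

/-- The base change of a plane curve, as an object over `Spec L`. -/
theorem nonempty_pullback_iso {L : Type u} [Field L] (φ : K →+* L) {d : ℕ} (G : Form 2 K d)
    (f : Spec (CommRingCat.of L) ⟶ Spec (CommRingCat.of K)) (hf : f = Spec.map (CommRingCat.ofHom φ)) :
    Nonempty ((Over.pullback f).obj (Over.mk (str G)) ≅ Over.mk (str (mapForm φ G))) := by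
  subst hf
  obtain ⟨π, hπ⟩ := exists_isPullback φ G
  exact ⟨Over.isoMk (hπ.isoPullback).symm (by
    change hπ.isoPullback.inv ≫ str (mapForm φ G) = pullback.snd _ _
    rw [IsPullback.isoPullback_inv_snd])⟩

theorem exists_section {G : Form 2 K 3} {v : Fin (2 + 1) → K} (hv : v ≠ 0) (h : MvPolynomial.eval v G.1 = 0) :
    ∃ σ : Spec (CommRingCat.of K) ⟶ (hypIdeal G).subscheme, σ ≫ str G = 𝟙 _ := by
  obtain ⟨i, hi⟩ := Function.ne_iff.1 hv
  obtain ⟨g, hg⟩ := exists_lift_apt G i (aff i v) ((aeval_dehom_eq_zero_iff i v hi G).2 h)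
  refine ⟨g, ?_⟩
  rw [str, reassoc_of% hg, apt_toSpec]
  exact Spec.map_id _

theorem exists_zero {G : Form 2 K 3} (σ : Spec (CommRingCat.of K) ⟶ (hypIdeal G).subscheme) (hσ : σ ≫ str G = 𝟙 _) :
    ∃ v : Fin (2 + 1) → K, v ≠ 0 ∧ MvPolynomial.eval v G.1 = 0 := by
  obtain ⟨j, a, ha⟩ := exists_eq_apt (k := K) (K := K) (σ ≫ (hypIdeal G).subschemeι) (by
    rw [Category.assoc]
    exact hσ.trans (Spec.map_id _).symm)
  have h1 := dehom_eq_zero G j a σ ha
  let v : Fin (2 + 1) → K := Fin.insertNth (α := fun _ => K) j 1 a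
  have hvj : v j = 1 := Fin.insertNth_apply_same (α := fun _ => K) j 1 a
  have hv : v j ≠ 0 := by rw [hvj]; exact one_ne_zero
  have haff : aff j v = a := by
    funext l
    change v (j.succAbove l) / v j = a l
    rw [hvj, div_one]
    exact Fin.insertNth_apply_succAbove (α := fun _ => K) j 1 a l
  refine ⟨v, fun h => hv (by rw [h]; rfl), ?_⟩
  rw [← aeval_dehom_eq_zero_iff j v hv G, haff]
  exact h1

/-- **No fine moduli in genus one**, given the cohomology of plane cubics. -/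
theorem main (H : PC.{u}) (k : Type u) [Field k] [IsAlgClosed k] (M : Over (Spec (CommRingCat.of k))) :
    ¬ ModFun.IsFineModuli ⊤ (ModFun.Mg (Spec (CommRingCat.of k)) 1) M := by
  intro hM
  have hinf : Infinite k := IsAlgClosed.instInfinite
  -- the parameter
  obtain ⟨d, hd0, hd1⟩ : ∃ d : k, d ≠ 0 ∧ 27 + d ^ 3 ≠ 0 := by
    classical
    let P : Polynomial k := Polynomial.X * (Polynomial.C 27 + Polynomial.X ^ 3)
    have hP : P ≠ 0 := by
      refine mul_ne_zero Polynomial.X_ne_zero ?_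
      intro h
      have := congrArg (Polynomial.coeff · 3) h
      simp at this
    obtain ⟨d, hd⟩ := Infinite.exists_notMem_finset P.roots.toFinset
    have h1 : P.eval d ≠ 0 := by
      intro h
      exact hd (Multiset.mem_toFinset.2 ((Polynomial.mem_roots hP).2 h))
    simp only [P, Polynomial.eval_mul, Polynomial.eval_X, Polynomial.eval_add, Polynomial.eval_C,
      Polynomial.eval_pow] at h1
    exact ⟨d, left_ne_zero_of_mul h1, right_ne_zero_of_mul h1⟩
  let K : Type u := RatFunc k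
  let L : Type u := AlgebraicClosure K
  let t : K := RatFunc.X
  have ht : t ≠ 0 := RatFunc.X_ne_zero
  let D : K := RatFunc.C d
  have hD0 : D ≠ 0 := by
    intro h; exact hd0 (RatFunc.C_injective (h.trans (map_zero _).symm))
  have hD1 : 27 + D ^ 3 ≠ 0 := by
    intro h
    refine hd1 (RatFunc.C_injective ?_)
    rw [map_add, map_pow, map_ofNat, map_zero]
    exact h
  let F₁ : Form 2 K 3 := cub 1 1 1 D
  let F₂ : Form 2 K 3 := cub 1 t (t ^ 2) (D * t)
  have j₁ : Jac F₁ := jac_cub one_ne_zero one_ne_zero one_ne_zero hD0 (by simpa using hD1)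
  have j₂ : Jac F₂ := jac_cub one_ne_zero ht (pow_ne_zero 2 ht) (mul_ne_zero hD0 ht) (by
    have : 27 * (1 * t * t ^ 2) + (D * t) ^ 3 = (27 + D ^ 3) * t ^ 3 := by ring
    rw [this]
    exact mul_ne_zero hD1 (pow_ne_zero 3 ht))
  have hinfK : Infinite K := Infinite.of_injective (RatFunc.C : k →+* RatFunc k) RatFunc.C_injective
  have c₁ : ModFun.IsCurveOfGenus 1 (str F₁) := isCurveOfGenus_str H j₁
  have c₂ : ModFun.IsCurveOfGenus 1 (str F₂) := isCurveOfGenus_str H j₂
  let φ : K →+* L := algebraMap K L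
  obtain ⟨s, hs⟩ : ∃ s : L, s ^ 3 = φ t := IsAlgClosed.exists_pow_nat_eq (φ t) (n := 3) (by norm_num)
  have hφt : φ t ≠ 0 := by rw [Ne, map_eq_zero]; exact ht
  have hs0 : s ≠ 0 := by
    rintro rfl
    exact hφt (by rw [← hs]; simp)
  have hc : ∀ i, (![1, s, s ^ 2] : Fin (2 + 1) → L) i ≠ 0 := by
    intro i
    fin_cases i
    · exact one_ne_zero
    · exact hs0
    · exact pow_ne_zero 2 hs0
  have hinfL : Infinite L := IsAlgClosed.instInfinite
  let T : Over (Spec (CommRingCat.of k)) := Over.mk (Spec.map (CommRingCat.ofHom (algebraMap k K)))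
  let T' : Over (Spec (CommRingCat.of k)) :=
    Over.mk (Spec.map (CommRingCat.ofHom φ) ≫ Spec.map (CommRingCat.ofHom (algebraMap k K)))
  let π : T' ⟶ T := Over.homMk (Spec.map (CommRingCat.ofHom φ)) rfl
  have hfl : Flat (Spec.map (CommRingCat.ofHom φ)) := by
    rw [Flat.SpecMap_iff]
    change (algebraMap K L).Flat
    exact RingHom.flat_algebraMap_iff.2 inferInstance
  have hsurj : Surjective (Spec.map (CommRingCat.ofHom φ)) :=
    ⟨fun x => ⟨IsLocalRing.closedPoint L, Subsingleton.elim (α := PrimeSpectrum K) _ _⟩⟩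
  have hepi : Epi π.left := by
    change Epi (Spec.map (CommRingCat.ofHom φ))
    exact Flat.epi_of_flat_of_surjective _
  have e₁ := nonempty_pullback_iso φ F₁ π.left rfl
  have e₂ := nonempty_pullback_iso φ F₂ π.left rfl
  have e₃ : Nonempty (Over.mk (str (mapForm φ F₂)) ≅ Over.mk (str (mapForm φ F₁))) := by
    have h1 : mapForm φ F₁ = cub 1 1 1 (φ D) := by
      rw [mapForm_cub, map_one]
    have h2 : mapForm φ F₂ = subForm (dia ![1, s, s ^ 2] hc : (Fin (2 + 1) → L) →ₗ[L] (Fin (2 + 1) → L))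
        (mapForm φ F₁) := by
      rw [h1, subForm_cub s (φ D) hc, mapForm_cub, map_one, map_mul, map_pow, hs]
    rw [h2]
    obtain ⟨e, he⟩ := exists_hypIso (dia ![1, s, s ^ 2] hc) (mapForm φ F₁)
    refine ⟨Over.isoMk e ?_⟩
    change e.hom ≫ (hypIdeal (mapForm φ F₁)).subschemeι ≫ CohB1.ProjSpace.toSpec 2 L = _
    rw [reassoc_of% he, autHom_toSpec]
    rfl
  obtain ⟨e₁⟩ := e₁
  obtain ⟨e₂⟩ := e₂
  obtain ⟨e₃⟩ := e₃
  obtain ⟨e⟩ := K590.Fine.nonempty_iso_of_pullback hM π (Over.mk (str F₁)) (Over.mk (str F₂)) c₁ c₂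
    ⟨e₁ ≪≫ e₃.symm ≪≫ e₂.symm⟩
  -- `F₁` has a point
  let v₁ : Fin (2 + 1) → K := ![1, -1, 0]
  have hv₁ : v₁ ≠ 0 := by
    intro h
    have := congrFun h 0
    exact one_ne_zero this
  obtain ⟨σ, hσ⟩ := exists_section (G := F₁) hv₁ (by
    rw [eval_cub]
    change (1 : K) * 1 ^ 3 + 1 * (-1) ^ 3 + 1 * 0 ^ 3 + D * (1 * -1 * 0) = 0
    ring)
  obtain ⟨v, hv, hv0⟩ := exists_zero (G := F₂) (σ ≫ e.hom.left) (by
    rw [Category.assoc]
    exact (congrArg (σ ≫ ·) (Over.w e.hom)).trans hσ)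
  refine hv (eq_zero_of_eval d v ?_)
  rw [eval_cub] at hv0
  rw [← hv0]
  change v 0 ^ 3 + t * v 1 ^ 3 + t ^ 2 * v 2 ^ 3 + D * t * (v 0 * v 1 * v 2) = _
  ring

end K590.Pair
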